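import Cfsg.Agent.Lib.BGroup.Three.Perfect
import Cfsg.Agent.Lib.GW.CoprimeFour
import Cfsg.Agent.Lib.Invol.KleinSylow
import Cfsg.Agent.Lib.Invol.SimpleSixty
import Cfsg.Agent.Lib.Coprime.DoubleLayer
import Mathlib.GroupTheory.SemidirectProduct

/-!
# Rank three with `L/O(L)` of order sixty: the perfect part centralises the odd core

A chief factor on which the perfect part acts non-trivially would be covered by the fixed spaces of at
most fifteen involutions, each of index at least `r²`, `r ≥ 7`.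
-/

set_option autoImplicit false
set_option linter.style.haveILetI false
set_option linter.unusedSectionVars false

namespace CfsgLib.BGroup

open Subgroup
open scoped commutatorElement

universe u

/-- The four group formula for automorphisms of a group of odd order. -/
theorem four_formula_aut {Q : Type u} [Group Q] [Finite Q] (hQ : Odd (Nat.card Q)) {a b : MulAut Q}
    (ha : a * a = 1) (hb : b * b = 1) (hab : Commute a b) :
    ∃ d : Subgroup Q, Nat.card Q * Nat.card d ^ 2 =
      Nat.card {x : Q // a x = x} * Nat.card {x : Q // b x = x} * Nat.card {x : Q // (a * b) x = x} := by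
  haveI : Finite (SemidirectProduct Q (MulAut Q) (MonoidHom.id (MulAut Q))) :=
    Finite.of_equiv _ SemidirectProduct.equivProd.symm
  set φ := MonoidHom.id (MulAut Q)
  set K := (SemidirectProduct.inl (φ := φ) : Q →* _).range with hKdef
  have hKc : Nat.card K = Nat.card Q :=
    (Nat.card_congr (MonoidHom.ofInjective SemidirectProduct.inl_injective).toEquiv).symm
  have hconj : ∀ (e : MulAut Q) (x : Q),
      SemidirectProduct.inr (φ := φ) e * SemidirectProduct.inl x * (SemidirectProduct.inr e)⁻¹ =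
        SemidirectProduct.inl (e x) := fun e x => by
    rw [← map_inv, ← SemidirectProduct.inl_aut]
    rfl
  have hn : ∀ e : MulAut Q, ∀ x ∈ K,
      SemidirectProduct.inr (φ := φ) e * x * (SemidirectProduct.inr e)⁻¹ ∈ K := by
    rintro e _ ⟨x, rfl⟩
    exact ⟨e x, (hconj e x).symm⟩
  have hfix : ∀ e : MulAut Q, Nat.card (GW.fixIn K (SemidirectProduct.inr (φ := φ) e)) =
      Nat.card {x : Q // e x = x} := by
    intro e
    refine (Nat.card_congr (Equiv.ofBijective
      (fun x : {x : Q // e x = x} => (⟨SemidirectProduct.inl x.1, GW.mem_fixIn.2 ⟨⟨x.1, rfl⟩,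
        by rw [hconj, x.2]⟩⟩ : GW.fixIn K (SemidirectProduct.inr (φ := φ) e))) ⟨?_, ?_⟩)).symm
    · exact fun x y h => Subtype.ext (SemidirectProduct.inl_injective (congrArg Subtype.val h))
    · rintro ⟨y, hy⟩
      obtain ⟨⟨x, rfl⟩, h⟩ := GW.mem_fixIn.1 hy
      rw [hconj] at h
      exact ⟨⟨x, SemidirectProduct.inl_injective h⟩, rfl⟩
  have h := GW.card_four_formula (K := K) (hKc ▸ hQ)
    (a := SemidirectProduct.inr (φ := φ) a) (b := SemidirectProduct.inr (φ := φ) b)
    (by rw [← map_mul, ha, map_one]) (by rw [← map_mul, hb, map_one])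
    (show Commute _ _ from hab.map _) (hn a) (hn b)
  rw [← map_mul, hKc, hfix, hfix, hfix] at h
  refine ⟨(GW.fixIn K (SemidirectProduct.inr (φ := φ) a) ⊓
    GW.fixIn K (SemidirectProduct.inr (φ := φ) b)).comap SemidirectProduct.inl, ?_⟩
  rw [← h]
  congr 2
  exact Nat.card_congr (Equiv.ofBijective
    (fun x => (⟨SemidirectProduct.inl x.1, x.2⟩ : (GW.fixIn K (SemidirectProduct.inr (φ := φ) a) ⊓
      GW.fixIn K (SemidirectProduct.inr (φ := φ) b) : Subgroup _)))
    ⟨fun x y h => Subtype.ext (SemidirectProduct.inl_injective (congrArg Subtype.val h)),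
      fun ⟨y, hy⟩ => by
        obtain ⟨x, rfl⟩ := hy.1.1
        exact ⟨⟨x, hy⟩, rfl⟩⟩)

theorem card_invol_alt_five :
    Fintype.card {k : alternatingGroup (Fin 5) // k * k = 1 ∧ k ≠ 1} = 15 := by decide

variable {X : Type u} [Group X] [Finite X]

/-- A subgroup invariant under the automorphisms in `Λ` fixing `t`. -/
def Inv (hX : Setting X) (t : X) (N : Subgroup X) : Prop :=
  ∀ e ∈ hX.Λ, (e : MulAut X) t = t → ∀ x ∈ N, (e : MulAut X) x ∈ N

theorem Inv.conj {hX : Setting X} {t : X} {N : Subgroup X} (h : Inv hX t N) {c x : X}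
    (hc : c ∈ centralizer ({t} : Set X)) (hx : x ∈ N) : c * x * c⁻¹ ∈ N :=
  h _ (hX.inn c) (by rw [MulAut.conj_apply, mem_centralizer_singleton_iff.1 hc, mul_inv_cancel_right]) x hx

/-- With `L/O(L)` of order sixty the perfect part centralises the odd core. -/
theorem Setting.perf_centralizes_O (hX : Setting X) (S : Sylow 2 X) {t : X}
    (ht : t ∈ (S : Subgroup X)) (ht1 : t ≠ 1) (d : PerfData S t)
    (h60 : Nat.card (perf t ⧸ Cfsg.oddCore (perf t)) = 60) : ⁅perf t, O t⁆ = ⊥ := by
  classical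
  haveI : Fact (Nat.Prime 2) := ⟨Nat.prime_two⟩
  set L := perf t with hL
  have hto : orderOf t = 2 := hX.invol_of_mem S ht ht1
  by_contra hne
  set N := ⁅L, O t⁆ with hN
  have hNO : N ≤ O t := commutator_le.2 fun l hl o ho => by
    rw [commutatorElement_def]
    exact mul_mem (conj_mem_O (perf_le t hl) ho) (inv_mem ho)
  have hNi : Inv hX t N := fun e _ het x hx => by
    have h1 : e x ∈ N.map (e : MulAut X).toMonoidHom := mem_map_of_mem _ hx
    rwa [hN, map_commutator, map_perf, map_O, het] at h1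
  have hNodd : Odd (Nat.card N) := (O_odd t).of_dvd_nat (card_dvd_of_le hNO)
  -- a maximal invariant subgroup below `N`
  obtain ⟨M, ⟨hMN, hMi⟩, hMmax⟩ :=
    (Set.toFinite {P : Subgroup X | P < N ∧ Inv hX t P}).exists_maximal
      ⟨⊥, bot_lt_iff_ne_bot.2 hne, fun e _ _ x hx => by
        rw [mem_bot.1 hx, map_one]; exact one_mem _⟩
  have hmax : ∀ P : Subgroup X, M ≤ P → P ≤ N → Inv hX t P → P = M ∨ P = N := fun P h1 h2 h3 => by
    by_cases h : P = N
    · exact Or.inr h
    · exact Or.inl (le_antisymm (hMmax ⟨lt_of_le_of_ne h2 h, h3⟩ h1) h1)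
  set M' := M.subgroupOf N with hM'
  haveI hMn : M'.Normal := ⟨fun m hm n => hMi.conj (O_le t (hNO n.2)) hm⟩
  have hM'top : M' ≠ ⊤ := fun h => hMN.not_ge (subgroupOf_eq_top.1 h)
  haveI : Group.IsSolvable N := by
    haveI := O_solvable t
    exact Coprime.isSolvable_congr (subgroupOfEquivOfLe hNO) inferInstance
  set π := QuotientGroup.mk' M' with hπ
  have hinvP : ∀ (P : Subgroup N), (∀ e ∈ hX.Λ, ∀ het : (e : MulAut X) t = t, ∀ x : N, x ∈ P →
      ∀ h : (e : MulAut X) x ∈ N, (⟨_, h⟩ : N) ∈ P) → Inv hX t (P.map N.subtype) := by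
    rintro P hP e he het _ ⟨x, hx, rfl⟩
    exact ⟨_, hP e he het x hx (hNi e he het x x.2), rfl⟩
  have hjump : ∀ P : Subgroup N, M' ≤ P → (∀ e ∈ hX.Λ, ∀ het : (e : MulAut X) t = t, ∀ x : N, x ∈ P →
      ∀ h : (e : MulAut X) x ∈ N, (⟨_, h⟩ : N) ∈ P) → P = M' ∨ P = ⊤ := by
    intro P hMP hP
    rcases hmax (P.map N.subtype) (by
        rw [← map_subgroupOf_eq_of_le hMN.le]; exact map_mono hMP) (map_subtype_le P) (hinvP P hP) with h | h
    · left
      rw [hM', ← h, subgroupOf, comap_map_eq_self_of_injective N.subtype_injective]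
    · right
      refine map_injective N.subtype_injective (h.trans ?_)
      rw [← MonoidHom.range_eq_map, range_subtype]
  -- the automorphisms on `N`
  have hMsub : ∀ e ∈ hX.Λ, (e : MulAut X) t = t → ∀ x : N, x ∈ M' → ∀ h : (e : MulAut X) x ∈ N,
      (⟨_, h⟩ : N) ∈ M' := fun e he het x hx _ => hMi e he het x hx
  have hab : ∀ x y : N ⧸ M', x * y = y * x := by
    have h1 : M' ⊔ commutator N = M' := by
      refine (hjump _ le_sup_left ?_).resolve_right fun htop => ?_
      · intro e he het x hx h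
        have hem : ∀ z : N, (e : MulAut X) z ∈ N := fun z => hNi e he het z z.2
        let f : N →* N :=
          { toFun := fun z => ⟨_, hem z⟩
            map_one' := Subtype.ext (map_one _)
            map_mul' := fun a b => Subtype.ext (map_mul (e : MulAut X) (a : X) b) }
        have h2 : (M' ⊔ commutator N).map f ≤ M' ⊔ commutator N := by
          rw [Subgroup.map_sup, commutator_def, map_commutator]
          refine sup_le_sup ?_ (commutator_mono le_top le_top)
          rintro _ ⟨z, hz, rfl⟩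
          exact hMsub e he het z hz (hem z)
        exact h2 ⟨x, hx, rfl⟩
      · have : Nontrivial (N ⧸ M') := QuotientGroup.nontrivial_iff.2 hM'top
        have h3 := congrArg (Subgroup.map π) htop
        rw [Subgroup.map_sup, hπ, QuotientGroup.map_mk'_self, bot_sup_eq,
          map_top_of_surjective _ (QuotientGroup.mk'_surjective M'), commutator_def, map_commutator,
          map_top_of_surjective _ (QuotientGroup.mk'_surjective M')] at h3
        exact (IsSolvable.commutator_lt_top_of_nontrivial (N ⧸ M')).ne h3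
    intro x y
    obtain ⟨a, rfl⟩ := QuotientGroup.mk'_surjective M' x
    obtain ⟨b, rfl⟩ := QuotientGroup.mk'_surjective M' y
    rw [← map_mul, ← map_mul, QuotientGroup.mk'_apply, QuotientGroup.mk'_apply, QuotientGroup.eq]
    rw [← h1]
    refine mem_sup_right ?_
    rw [show (a * b)⁻¹ * (b * a) = ⁅b⁻¹, a⁻¹⁆ by rw [commutatorElement_def]; group]
    exact commutator_mem_commutator (mem_top _) (mem_top _)
  letI : CommGroup (N ⧸ M') := { (inferInstance : Group (N ⧸ M')) with mul_comm := hab }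
  -- the prime `r`
  obtain ⟨r, hr, hrd⟩ := Nat.exists_prime_and_dvd (n := Nat.card (N ⧸ M')) (by
    rw [← Subgroup.index_eq_card]; exact fun h => hM'top (index_eq_one.1 h))
  haveI := Fact.mk hr
  have hexpQ : ∀ x : N ⧸ M', x ^ r = 1 := by
    set T := ((powMonoidHom r : (N ⧸ M') →* (N ⧸ M')).ker).comap π with hT
    have hTmem : ∀ x : N, x ∈ T ↔ (π x) ^ r = 1 := fun x => Iff.rfl
    have hMT : M' ≤ T := fun x hx => (hTmem x).2 (by
      rw [show π x = 1 from (QuotientGroup.eq_one_iff x).2 hx, one_pow])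
    have hTtop : T = ⊤ := by
      refine (hjump T hMT ?_).resolve_left fun h => ?_
      · intro e he het x hx h
        rw [hTmem, ← map_pow, hπ, QuotientGroup.mk'_apply, QuotientGroup.eq_one_iff] at hx ⊢
        have := hMsub e he het (x ^ r) hx (hNi e he het _ (x ^ r).2)
        convert this using 1
        exact Subtype.ext (by simp [map_pow])
      · obtain ⟨q, hq⟩ := exists_prime_orderOf_dvd_card' r hrd
        obtain ⟨x, rfl⟩ := QuotientGroup.mk'_surjective M' q
        have hxT : x ∈ T := (hTmem x).2 (hq ▸ pow_orderOf_eq_one _)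
        rw [h] at hxT
        rw [show QuotientGroup.mk' M' x = 1 from (QuotientGroup.eq_one_iff x).2 hxT, orderOf_one] at hq
        exact hr.one_lt.ne hq
    intro q
    obtain ⟨x, rfl⟩ := QuotientGroup.mk'_surjective M' q
    exact (hTmem x).1 (hTtop ▸ mem_top x)
  have hQp : IsPGroup r (N ⧸ M') := fun x => ⟨1, by rw [pow_one]; exact hexpQ x⟩
  obtain ⟨D, hD⟩ := hQp.exists_card_eq
  have hD0 : D ≠ 0 := by
    rintro rfl
    rw [pow_zero] at hD
    rw [hD] at hrd
    exact hr.not_dvd_one hrd
  have hr2 : r ≠ 2 := by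
    rintro rfl
    exact hNodd.not_two_dvd_nat (hrd.trans (Subgroup.card_quotient_dvd_card M'))
  -- the action of `L`
  have hlN : ∀ l : L, ∀ x : N, (l : X) * x * (l : X)⁻¹ ∈ N := fun l x => hNi.conj (perf_le t l.2) x.2
  have hlM : ∀ l : L, ∀ x : N, x ∈ M' → (⟨_, hlN l x⟩ : N) ∈ M' := fun l x hx =>
    hMi.conj (perf_le t l.2) hx
  let α : L → N →* N := fun l =>
    { toFun := fun x => ⟨_, hlN l x⟩
      map_one' := Subtype.ext (by simp)
      map_mul' := fun a b => Subtype.ext (by simp) }
  let β : L → (N ⧸ M') →* (N ⧸ M') := fun l => QuotientGroup.map M' M' (α l) fun x hx => hlM l x hx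
  have hβ : ∀ (l : L) (x : N), β l (π x) = π ⟨_, hlN l x⟩ := fun l x => rfl
  have hβmul : ∀ (l m : L) (q : N ⧸ M'), β (l * m) q = β l (β m q) := by
    intro l m q
    obtain ⟨x, rfl⟩ := QuotientGroup.mk'_surjective M' q
    rw [hβ, hβ, hβ]
    exact congrArg π (Subtype.ext (by push_cast; group))
  have hβone : ∀ q : N ⧸ M', β 1 q = q := by
    intro q
    obtain ⟨x, rfl⟩ := QuotientGroup.mk'_surjective M' q
    rw [hβ]
    exact congrArg π (Subtype.ext (by simp))
  let φ : L →* MulAut (N ⧸ M') := MonoidHom.mk' (fun l =>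
    { toFun := β l
      invFun := β l⁻¹
      left_inv := fun q => by rw [← hβmul, inv_mul_cancel, hβone]
      right_inv := fun q => by rw [← hβmul, mul_inv_cancel, hβone]
      map_mul' := map_mul (β l) }) fun l m => MulEquiv.ext fun q => hβmul l m q
  -- the action is not trivial
  have hnontriv : ∃ l : L, φ l ≠ 1 := by
    by_contra htriv
    push Not at htriv
    refine hMN.not_ge (hN ▸ commutator_le.2 fun l hl o ho => ?_)
    have hmem : ∀ l : L, ⁅(l : X), o⁆ ∈ N := fun l => commutator_mem_commutator l.2 ho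
    let f : L →* N ⧸ M' := MonoidHom.mk' (fun l => π ⟨_, hmem l⟩) fun a b => by
      have h1 : φ a (π ⟨_, hmem b⟩) = π ⟨_, hmem b⟩ := by rw [htriv a]; rfl
      rw [show φ a (π ⟨_, hmem b⟩) = π ⟨_, hlN a ⟨_, hmem b⟩⟩ from rfl] at h1
      rw [mul_comm (π ⟨_, hmem a⟩), ← h1, ← map_mul]
      refine congrArg π (Subtype.ext ?_)
      push_cast
      rw [commutatorElement_def, commutatorElement_def, commutatorElement_def]
      group
    have hker : commutator L ≤ f.ker := Abelianization.commutator_subset_ker f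
    rw [Group.isPerfect_def.1 (isPerfect_perf t)] at hker
    have h2 : (⟨_, hmem ⟨l, hl⟩⟩ : N) ∈ M' := (QuotientGroup.eq_one_iff _).1 (hker (mem_top (⟨l, hl⟩ : L)))
    exact h2
  -- the elementary part
  have hD2 : 2 ≤ D := by
    by_contra h
    obtain rfl : D = 1 := by omega
    rw [pow_one] at hD
    haveI : IsCyclic (N ⧸ M') := isCyclic_of_prime_card hD
    obtain ⟨g, hg⟩ := IsCyclic.exists_generator (α := N ⧸ M')
    obtain ⟨l, hl⟩ := hnontriv
    refine hl ?_
    have hker : commutator L ≤ φ.ker := by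
      rw [_root_.commutator_def, commutator_le]
      intro a _ b _
      rw [MonoidHom.mem_ker, commutatorElement_def, map_mul, map_mul, map_mul, map_inv, map_inv]
      have hc : φ a * φ b = φ b * φ a := by
        refine MulEquiv.ext fun q => ?_
        obtain ⟨i, hi⟩ := mem_zpowers_iff.1 (hg (φ a g))
        obtain ⟨j, hj⟩ := mem_zpowers_iff.1 (hg (φ b g))
        obtain ⟨k, rfl⟩ := mem_zpowers_iff.1 (hg q)
        simp only [MulAut.mul_apply, map_zpow, ← hi, ← hj, ← zpow_mul]
        rw [mul_comm i j]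
      rw [hc]; group
    exact hker (by rw [Group.isPerfect_def.1 (isPerfect_perf t)]; exact mem_top l)
  -- exponent `r` for all `r`-elements of `X`
  obtain ⟨R⟩ : Nonempty (Sylow r N) := inferInstance
  have hRsurj : ((R : Subgroup N)).map π = ⊤ := by
    have := (R.mapSurjective (QuotientGroup.mk'_surjective M')).3
      (Q := ⊤) (hQp.to_subgroup ⊤) le_top
    exact this.symm
  have hexpX : ∀ (x : X) (k : ℕ), x ^ r ^ k = 1 → x ^ r = 1 := by
    intro x k hx
    set R' := (R : Subgroup N).map N.subtype with hR'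
    have hnu : ¬ Coprime.UniqueOrderP r R' := by
      intro hu
      haveI : IsCyclic R' := Coprime.isCyclic_of_unique_odd hr2 (R.2.map _) hu
      haveI : IsCyclic (R : Subgroup N) := isCyclic_of_surjective
        ((R : Subgroup N).equivMapOfInjective N.subtype N.subtype_injective).symm.toMonoidHom
        ((R : Subgroup N).equivMapOfInjective N.subtype N.subtype_injective).symm.surjective
      obtain ⟨g, hg⟩ := IsCyclic.exists_generator (α := (R : Subgroup N))
      have hle : (⊤ : Subgroup (N ⧸ M')) ≤ zpowers (π (g : N)) := by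
        rw [← hRsurj]
        rintro _ ⟨y, hy, rfl⟩
        obtain ⟨i, hi⟩ := mem_zpowers_iff.1 (hg ⟨y, hy⟩)
        have hy' : y = (g : N) ^ i := by rw [← SubgroupClass.coe_zpow, hi]
        rw [hy', map_zpow]
        exact zpow_mem (mem_zpowers _) i
      have h1 := Nat.le_of_dvd hr.pos ((Nat.card_zpowers (π (g : N))).symm ▸
        (orderOf_dvd_of_pow_eq_one (hexpQ _)))
      have h2 := card_le_of_le hle
      rw [Subgroup.card_top, hD, Nat.card_zpowers] at h2
      have h3 : r ^ 2 ≤ r ^ D := Nat.pow_le_pow_right hr.pos hD2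
      have := hr.two_le
      nlinarith [Nat.le_of_dvd hr.pos (orderOf_dvd_of_pow_eq_one (hexpQ (π (g : N))))]
    obtain ⟨E, hEc, hEn, hEe, -⟩ := Invol.exists_elementary_card_sq (R.2.map N.subtype) hnu
    exact hX.exponent_of_elementary hr hEc hEn hEe hx
  -- lifting
  have hlift : ∀ q : N ⧸ M', q ≠ 1 → ∃ x : N, π x = q ∧ orderOf (x : X) = r := by
    intro q hq
    obtain ⟨x, hx, rfl⟩ : q ∈ (R : Subgroup N).map π := hRsurj ▸ mem_top q
    obtain ⟨k, hk⟩ := R.2 ⟨x, hx⟩
    refine ⟨x, rfl, orderOf_eq_prime ?_ fun h => hq ?_⟩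
    · exact hexpX _ k (congrArg Subtype.val (congrArg Subtype.val hk))
    · rw [show x = 1 from Subtype.ext h, map_one]
  -- `r ≥ 7`
  haveI := Coprime.pPrimeCore_characteristic (G := L) 2
  set K := L ⧸ Cfsg.oddCore L
  have hOL : Odd (Nat.card (Cfsg.oddCore L)) := by
    rw [← Nat.not_even_iff_odd, even_iff_two_dvd]; exact Coprime.pPrimeCore_not_dvd Nat.prime_two
  have hOLo : ∀ g : L, g ∈ Cfsg.oddCore L ↔ (g : X) ∈ O t := by
    intro g
    constructor
    · intro hg
      have hle : (Cfsg.oddCore L).map L.subtype ≤ O t := by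
        refine le_O ((map_subtype_le _).trans (perf_le t)) ⟨fun n hn c => ?_⟩ (by
          rw [card_map_of_injective L.subtype_injective]; exact hOL)
        let f : L ≃* L :=
          { toFun := fun x => ⟨_, conj_mem_perf c.2 x.2⟩
            invFun := fun x => ⟨_, conj_mem_perf (inv_mem c.2) x.2⟩
            left_inv := fun x => Subtype.ext (by simp only [inv_inv]; group)
            right_inv := fun x => Subtype.ext (by simp only [inv_inv]; group)
            map_mul' := fun a b => Subtype.ext (by push_cast; group) }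
        obtain ⟨m, hm, hmn⟩ := hn
        refine ⟨f m, ?_, ?_⟩
        · show f m ∈ Cfsg.pPrimeCore 2 L
          rw [← Coprime.map_pPrimeCore_equiv f 2]
          exact mem_map_of_mem _ hm
        · show (c : X) * (m : X) * (c : X)⁻¹ = (c : X) * (n : X) * (c : X)⁻¹
          rw [show (m : X) = (n : X) from hmn]
      exact hle ⟨g, hg, rfl⟩
    · intro hg
      have : ((O t).subgroupOf L) ≤ Cfsg.oddCore L := by
        haveI : ((O t).subgroupOf L).Normal := ⟨fun n hn c => conj_mem_O (perf_le t c.2) hn⟩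
        refine Coprime.le_pPrimeCore_of_not_dvd Nat.prime_two ?_
        have h1 : Nat.card ((O t).subgroupOf L) ∣ Nat.card (O t) := by
          rw [← card_map_of_injective (K := (O t).subgroupOf L) L.subtype_injective]
          exact card_dvd_of_le (by rintro _ ⟨y, hy, rfl⟩; exact hy)
        exact fun h => (O_odd t).not_two_dvd_nat (h.trans h1)
      exact this hg
  obtain ⟨q₀, hq₀⟩ : ∃ q : N ⧸ M', q ≠ 1 := by
    haveI : Nontrivial (N ⧸ M') := QuotientGroup.nontrivial_iff.2 hM'top
    exact exists_ne 1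
  obtain ⟨x₀, -, hx₀⟩ := hlift q₀ hq₀
  have hr7 : 7 ≤ r := by
    by_contra hlt
    have h2 := hr.two_le
    have hr35 : r = 3 ∨ r = 5 := by
      rcases (show r = 3 ∨ r = 4 ∨ r = 5 ∨ r = 6 by omega) with h | h | h | h
      · exact Or.inl h
      · subst h; norm_num at hr
      · exact Or.inr h
      · subst h; norm_num at hr
    obtain ⟨k, hk⟩ := exists_prime_orderOf_dvd_card' (G := K) r
      (by rw [h60]; rcases hr35 with rfl | rfl <;> norm_num)
    obtain ⟨l, rfl⟩ := QuotientGroup.mk'_surjective (Cfsg.oddCore L) k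
    obtain ⟨a, b, hb, hab'⟩ := Nat.exists_eq_pow_mul_and_not_dvd (orderOf_pos l).ne' r hr.one_lt.ne'
    have hlb : QuotientGroup.mk' (Cfsg.oddCore L) (l ^ b) ≠ 1 := by
      rw [map_pow]
      intro h
      exact hb (hk ▸ orderOf_dvd_of_pow_eq_one h)
    have hlr : (((l ^ b : L) : X)) ^ r = 1 := hexpX _ a (by
      rw [← SubmonoidClass.coe_pow, ← pow_mul, mul_comm b, ← hab', pow_orderOf_eq_one]; rfl)
    have hlo : orderOf ((l ^ b : L) : X) = r := orderOf_eq_prime hlr fun h =>
      hlb (by rw [show l ^ b = 1 from Subtype.ext h, map_one])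
    have := hX.mem_O_of_orderOf hto hto (hNO x₀.2) (perf_le t (l ^ b).2) (hlo.trans hx₀.symm)
    exact hlb ((QuotientGroup.eq_one_iff _).2 ((hOLo _).2 this))
  -- the involutions of `L`
  obtain ⟨RS, hRS⟩ := d.sylow
  have hRS4 : Nat.card (RS : Subgroup L) = 4 := by
    rw [← card_map_of_injective (K := (RS : Subgroup L)) L.subtype_injective, hRS]; exact d.card_four
  have hRSexp : ∀ x ∈ (RS : Subgroup L), x * x = 1 := fun x hx => Subtype.ext
    (hX.sq_one S (hRS ▸ mem_map_of_mem _ hx : (x : X) ∈ (S : Subgroup X) ⊓ L).1)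
  haveI hklein := isKleinFour_of hRS4 hRSexp
  have hconjInv : ∀ x ∈ RS, ∀ y ∈ RS, x ≠ 1 → y ≠ 1 → IsConj x y := by
    refine (Invol.klein_dichotomy RS hklein).resolve_left fun hfix => ?_
    have hle : normalizer ((RS : Subgroup L) : Set L) ≤ centralizer ((RS : Subgroup L) : Set L) :=
      fun g hg => mem_centralizer_iff.2 fun x hx => (mul_inv_eq_iff_eq_mul.1 (hfix x hx g hg)).symm
    have hodd : Odd (Nat.card (MonoidHom.transferSylow RS hle).ker) := by
      rw [← Nat.not_even_iff_odd, even_iff_two_dvd]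
      exact MonoidHom.not_dvd_card_ker_transferSylow RS hle
    -- a perfect group has no nontrivial abelian quotient
    have htop : (MonoidHom.transferSylow RS hle).ker = ⊤ := by
      haveI : IsMulCommutative (RS : Subgroup L) := Invol.klein_comm RS hklein
      open scoped IsMulCommutative in
      exact top_unique (Group.isPerfect_def.1 (isPerfect_perf t) ▸
        Abelianization.commutator_subset_ker (MonoidHom.transferSylow RS hle))
    rw [htop, Subgroup.card_top] at hodd
    have := Subgroup.card_subgroup_dvd_card (RS : Subgroup L)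
    rw [hRS4] at this
    exact hodd.not_two_dvd_nat ((show 2 ∣ 4 by norm_num).trans this)
  let F : L → ℕ := fun u => Nat.card {q : N ⧸ M' // φ u q = q}
  have hFconj : ∀ l u : L, F (l * u * l⁻¹) = F u := by
    intro l u
    refine (Nat.card_congr ((φ l).toEquiv.subtypeEquiv fun q => ?_)).symm
    show φ u q = q ↔ φ (l * u * l⁻¹) (φ l q) = φ l q
    rw [map_mul, map_mul, map_inv, MulAut.mul_apply, MulAut.mul_apply, MulAut.inv_apply_self]
    exact ⟨fun h => by rw [h], fun h => (φ l).injective h⟩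
  obtain ⟨a, b, ha, hb, hab1, ha1, hb1⟩ : ∃ a b : L, a ∈ RS ∧ b ∈ RS ∧ a ≠ b ∧ a ≠ 1 ∧ b ≠ 1 := by
    obtain ⟨x, y, hx, hy, hxy⟩ : ∃ x y : (RS : Subgroup L), x ≠ 1 ∧ y ≠ 1 ∧ x ≠ y := by
      haveI := Fintype.ofFinite (RS : Subgroup L)
      obtain ⟨x, hx⟩ := Fintype.exists_ne_of_one_lt_card
        (by rw [← Nat.card_eq_fintype_card, hRS4]; norm_num) (1 : (RS : Subgroup L))
      obtain ⟨y, hy⟩ : ∃ y : (RS : Subgroup L), y ∉ ({1, x} : Finset _) := by
        by_contra h
        push Not at h
        have := Finset.card_le_card (show (Finset.univ : Finset (RS : Subgroup L)) ⊆ {1, x} from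
          fun z _ => h z)
        rw [Finset.card_univ, ← Nat.card_eq_fintype_card, hRS4] at this
        exact absurd (this.trans Finset.card_le_two) (by norm_num)
      simp only [Finset.mem_insert, Finset.mem_singleton, not_or] at hy
      exact ⟨x, y, hx, hy.1, Ne.symm hy.2⟩
    exact ⟨x, y, x.2, y.2, fun h => hxy (Subtype.ext h), fun h => hx (Subtype.ext h),
      fun h => hy (Subtype.ext h)⟩
  have hinvconj : ∀ u : L, orderOf u = 2 → ∃ l : L, l * u * l⁻¹ = a := by
    intro u hu
    obtain ⟨g, hg⟩ := Invol.exists_conj_le_sylow (IsPGroup.of_card (n := 1)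
      (by rw [Nat.card_zpowers, hu, pow_one]) : IsPGroup 2 (zpowers u)) RS
    obtain ⟨h, hh⟩ := isConj_iff.1 (hconjInv _ (hg u (mem_zpowers u)) a ha
      (Invol.invol_ne_one (Invol.invol_conj hu g)) ha1)
    exact ⟨h * g, by rw [← hh]; group⟩
  have habo : ∀ x ∈ RS, x ≠ 1 → orderOf x = 2 := fun x hx h1 => Invol.invol_iff.2 ⟨hRSexp x hx, h1⟩
  have hFu : ∀ u : L, orderOf u = 2 → F u = F a := fun u hu => by
    obtain ⟨l, hl⟩ := hinvconj u hu
    rw [← hl, hFconj]
  have habne : a * b ≠ 1 := fun h => hab1 ((mul_eq_one_iff_eq_inv.1 h).trans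
    (inv_eq_of_mul_eq_one_right (hRSexp b hb)))
  have hQodd : Odd (Nat.card (N ⧸ M')) := hNodd.of_dvd_nat (Subgroup.card_quotient_dvd_card M')
  obtain ⟨d₀, hd₀⟩ := four_formula_aut hQodd (a := φ a) (b := φ b)
    (by rw [← map_mul, hRSexp a ha, map_one]) (by rw [← map_mul, hRSexp b hb, map_one])
    (show Commute (φ a) (φ b) from Commute.map
      (congrArg Subtype.val ((Invol.klein_comm RS hklein).is_comm.comm
        (⟨a, ha⟩ : (RS : Subgroup L)) ⟨b, hb⟩)) φ)
  have hform : Nat.card (N ⧸ M') * Nat.card d₀ ^ 2 = F a * F a * F a := by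
    rw [hd₀, ← map_mul]
    show F a * F b * F (a * b) = F a * F a * F a
    rw [hFu b (habo b hb hb1), hFu (a * b) (habo _ (mul_mem ha hb) habne)]
  -- the fixed spaces are small and cover the factor
  obtain ⟨i, -, hi⟩ := (Nat.dvd_prime_pow hr).1
    ((hD ▸ Subgroup.card_subgroup_dvd_card d₀ :) : Nat.card d₀ ∣ r ^ D)
  let Fix : Subgroup (N ⧸ M') :=
    { carrier := {q | φ a q = q}
      one_mem' := map_one _
      mul_mem' := fun {x y} hx hy => by
        show φ a (x * y) = x * y
        rw [map_mul, show φ a x = x from hx, show φ a y = y from hy]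
      inv_mem' := fun {x} hx => by
        show φ a x⁻¹ = x⁻¹
        rw [map_inv, show φ a x = x from hx] }
  obtain ⟨j, hjD, hj⟩ := (Nat.dvd_prime_pow hr).1
    ((hD ▸ Subgroup.card_subgroup_dvd_card Fix :) : Nat.card Fix ∣ r ^ D)
  have hFa : F a = r ^ j := hj
  rw [hD, hi, hFa, ← pow_mul, ← pow_add, ← pow_add, ← pow_add] at hform
  have hdij : D + i * 2 = j + j + j := Nat.pow_right_injective hr.two_le hform
  have hjne : j ≠ D := by
    intro hjd
    obtain ⟨l, hl⟩ := hnontriv
    -- then all involutions act trivially, so does their closure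
    have hall : ∀ u : L, orderOf u = 2 → φ u = 1 := by
      intro u hu
      obtain ⟨g, hg⟩ := hinvconj u hu
      have hfull : Fix = ⊤ := eq_top_of_card_eq _ (by rw [hj, hjd, hD])
      have ha' : φ a = 1 := MulEquiv.ext fun q => (hfull.symm ▸ mem_top q : q ∈ Fix)
      rw [show u = g⁻¹ * a * g by rw [← hg]; group, map_mul, map_mul, ha', mul_one, map_inv,
        inv_mul_cancel]
    have hkodd : Odd φ.ker.index := by
      rw [← Nat.not_even_iff_odd, even_iff_two_dvd]
      refine fun h => RS.not_dvd_index (h.trans (index_dvd_of_le fun x hx => ?_))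
      by_cases hx1 : x = 1
      · rw [hx1]; exact one_mem _
      · exact MonoidHom.mem_ker.2 (hall x (habo x hx hx1))
    haveI := Cfsg.Agent.S0205.result (G := L ⧸ φ.ker) (by rw [← Subgroup.index_eq_card]; exact hkodd)
    have htop : φ.ker = ⊤ := by
      by_contra hk
      haveI : Nontrivial (L ⧸ φ.ker) := QuotientGroup.nontrivial_iff.2 hk
      refine (IsSolvable.commutator_lt_top_of_nontrivial (L ⧸ φ.ker)).ne ?_
      rw [_root_.commutator_def, ← map_top_of_surjective _ (QuotientGroup.mk'_surjective φ.ker),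
        ← map_commutator, ← _root_.commutator_def, Group.isPerfect_def.1 (isPerfect_perf t)]
    exact hl (MonoidHom.mem_ker.1 (htop ▸ mem_top l))
  have hjle : j + 2 ≤ D := by omega
  -- covering
  haveI hsimpleK : IsSimpleGroup K := by
    obtain ⟨Fq, i1, i2, h5, -, ⟨e⟩⟩ := d.psl
    haveI := Matrix.ProjectiveSpecialLinearGroup.rank_two_simple (F := Fq)
      (by rw [Nat.card_eq_fintype_card]; omega)
    exact MulEquiv.isSimpleGroup e
  obtain ⟨eA⟩ := Invol.mulEquiv_alternating_five (G := K) h60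
  let J := {k : K // k * k = 1 ∧ k ≠ 1}
  have hJ : Nat.card J = 15 := by
    rw [Nat.card_congr (eA.toEquiv.subtypeEquiv (q := fun k => k * k = 1 ∧ k ≠ 1) fun k => ?_),
      Nat.card_eq_fintype_card, card_invol_alt_five]
    show k * k = 1 ∧ k ≠ 1 ↔ eA k * eA k = 1 ∧ eA k ≠ 1
    rw [← map_mul, map_eq_one_iff _ eA.injective, Ne, Ne, map_eq_one_iff _ eA.injective]
  have hrep : ∀ k : J, ∃ u : L, QuotientGroup.mk' (Cfsg.oddCore L) u = k.1 ∧ orderOf u = 2 := by
    intro k
    obtain ⟨u, hu⟩ := QuotientGroup.mk'_surjective (Cfsg.oddCore L) k.1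
    set n := Nat.card (Cfsg.oddCore L)
    have hu2 : u * u ∈ Cfsg.oddCore L := (QuotientGroup.eq_one_iff _).1 (by
      show QuotientGroup.mk' _ (u * u) = 1
      rw [map_mul, hu, k.2.1])
    have hun : (u ^ n) ^ 2 = 1 := by
      rw [← pow_mul, mul_comm, pow_mul, sq]
      exact congrArg Subtype.val (pow_card_eq_one' (x := (⟨_, hu2⟩ : Cfsg.oddCore L)))
    have himg : QuotientGroup.mk' (Cfsg.oddCore L) (u ^ n) = k.1 := by
      obtain ⟨m, hm⟩ := hOL
      rw [map_pow, hu, show n = 2 * m + 1 from hm, pow_succ, pow_mul, sq, k.2.1, one_pow, one_mul]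
    refine ⟨u ^ n, himg, Invol.invol_iff.2 ⟨by rw [← sq]; exact hun, fun h => k.2.2 ?_⟩⟩
    rw [← himg, h, map_one]
  choose rep hrep1 hrep2 using hrep
  have hphi : ∀ u u' : L, orderOf u = 2 → orderOf u' = 2 →
      QuotientGroup.mk' (Cfsg.oddCore L) u = QuotientGroup.mk' (Cfsg.oddCore L) u' → φ u = φ u' := by
    intro u u' hu hu' he
    have hmem : u * u' ∈ Cfsg.oddCore L := by
      rw [← QuotientGroup.eq_one_iff, ← QuotientGroup.mk'_apply, map_mul, he, ← map_mul,
        Invol.invol_mul_self hu', map_one]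
    obtain ⟨g, hg, hgu⟩ := Invol.exists_conj_eq_of_odd hu hu'
      (hOL.of_dvd_nat (Subgroup.orderOf_dvd_natCard _ hmem))
    have hgO : (g : X) ∈ O t := (hOLo g).1 (zpowers_le.2 hmem hg)
    have hcN : (g : X) * u * (g : X)⁻¹ * (u : X)⁻¹ ∈ N := by
      rw [show (g : X) * u * (g : X)⁻¹ * (u : X)⁻¹ = ⁅(u : X), (g : X)⁆⁻¹ by
        rw [commutatorElement_def]; group]
      exact inv_mem (commutator_mem_commutator u.2 hgO)
    set z : L := g * u * g⁻¹ * u⁻¹ with hz
    have hz1 : φ z = 1 := MulEquiv.ext fun q => by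
      obtain ⟨x, rfl⟩ := QuotientGroup.mk'_surjective M' q
      show β z (π x) = π x
      rw [hβ]
      have h2 : (⟨(z : X) * x * (z : X)⁻¹, hlN z x⟩ : N) =
          ⟨_, hcN⟩ * x * (⟨_, hcN⟩ : N)⁻¹ := Subtype.ext (by simp [hz])
      rw [h2, map_mul, map_mul, map_inv, hab, ← mul_assoc, inv_mul_cancel, one_mul]
    rw [← hgu, show g * u * g⁻¹ = z * u by rw [hz]; group, map_mul, hz1, one_mul]
  -- a fixed vector
  have hj0 : j ≠ 0 := by omega
  obtain ⟨q₁, hq₁, hq₁1⟩ : ∃ q : N ⧸ M', φ a q = q ∧ q ≠ 1 := by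
    have : Fix ≠ ⊥ := fun h => by
      rw [h, Subgroup.card_bot] at hj
      have := Nat.one_lt_pow hj0 hr.one_lt
      omega
    obtain ⟨q, hq, hq1⟩ := (bot_or_exists_ne_one Fix).resolve_left this
    exact ⟨q, hq, hq1⟩
  obtain ⟨x₁, hx₁q, hx₁⟩ := hlift q₁ hq₁1
  have hcover : ∀ q : N ⧸ M', ∃ k : J, φ (rep k) q = q := by
    intro q
    obtain ⟨u, hu, huq⟩ : ∃ u : L, orderOf u = 2 ∧ φ u q = q := by
      by_cases hq : q = 1
      · exact ⟨a, habo a ha ha1, by rw [hq, map_one]⟩
      obtain ⟨y, hyq, hy⟩ := hlift q hq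
      obtain ⟨e, he, het, hmap⟩ := hX.fuse_cent hto
        (zpowers_le.2 (O_le t (hNO x₁.2))) (zpowers_le.2 (O_le t (hNO y.2)))
        inferInstance inferInstance (by rw [Nat.card_zpowers, hx₁]; exact hr.odd_of_ne_two hr2)
        (by rw [Nat.card_zpowers, Nat.card_zpowers, hx₁, hy])
      have hu : (e : MulAut X) (a : X) ∈ L := by
        have := mem_perf_map (e := e) a.2
        rwa [het] at this
      refine ⟨⟨_, hu⟩, ?_, ?_⟩
      · rw [← Subgroup.orderOf_coe]
        show orderOf ((e : MulAut X) (a : X)) = 2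
        rw [MulEquiv.orderOf_eq, Subgroup.orderOf_coe, habo a ha ha1]
      · -- transport the fixed point
        set ex : N := ⟨(e : MulAut X) x₁, hNi e he het x₁ x₁.2⟩ with hex
        have hfix : φ ⟨_, hu⟩ (π ex) = π ex := by
          show β ⟨_, hu⟩ (π ex) = π ex
          rw [hβ, hπ, QuotientGroup.mk'_apply, QuotientGroup.mk'_apply, QuotientGroup.eq]
          have h1 : φ a (π x₁) = π x₁ := by rw [hx₁q, hq₁]
          change π ⟨_, hlN a x₁⟩ = π x₁ at h1
          rw [hπ, QuotientGroup.mk'_apply, QuotientGroup.mk'_apply, QuotientGroup.eq] at h1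
          have h2 := hMsub e he het _ h1 (hNi e he het _ (SetLike.coe_mem _))
          convert h2 using 1
          exact Subtype.ext (by simp [hex])
        obtain ⟨z, hz, hzy⟩ : (y : X) ∈ (zpowers (x₁ : X)).map (e : MulAut X).toMonoidHom :=
          hmap ▸ mem_zpowers _
        obtain ⟨n, rfl⟩ := mem_zpowers_iff.1 hz
        have hy' : y = ex ^ n := Subtype.ext (by
          rw [← hzy, SubgroupClass.coe_zpow, hex]; exact map_zpow _ _ _)
        rw [← hyq, hy', map_zpow, map_zpow, hfix]
    refine ⟨⟨QuotientGroup.mk' (Cfsg.oddCore L) u, ?_, fun h => ?_⟩, ?_⟩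
    · rw [← map_mul, Invol.invol_mul_self hu, map_one]
    · have := hOL.of_dvd_nat (Subgroup.orderOf_dvd_natCard _ ((QuotientGroup.eq_one_iff u).1 h))
      rw [hu] at this
      exact absurd this (by decide)
    · rw [hphi _ u (hrep2 _) hu (hrep1 _)]
      exact huq
  have hle : Nat.card (N ⧸ M') ≤ 15 * r ^ j := by
    let f : (Σ k : J, {q : N ⧸ M' // φ (rep k) q = q}) → N ⧸ M' := fun p => p.2.1
    have hf : Function.Surjective f := fun q => by
      obtain ⟨k, hk⟩ := hcover q
      exact ⟨⟨k, q, hk⟩, rfl⟩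
    refine (Nat.card_le_card_of_surjective f hf).trans (le_of_eq ?_)
    haveI := Fintype.ofFinite J
    rw [Nat.card_sigma, Finset.sum_congr rfl (fun k _ => (hFu (rep k) (hrep2 k)).trans hFa),
      Finset.sum_const, Finset.card_univ, ← Nat.card_eq_fintype_card, hJ, smul_eq_mul]
  have h1 : r ^ (j + 2) ≤ 15 * r ^ j := (Nat.pow_le_pow_right hr.pos hjle).trans (hD ▸ hle)
  rw [pow_add, mul_comm] at h1
  have h2 := Nat.le_of_mul_le_mul_right h1 (pow_pos hr.pos j)
  nlinarith

end CfsgLib.BGroup
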