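import Cfsg.Agent.Lib.BGroup.Signalizer
import Cfsg.Agent.Lib.BGroup.Three.CoreFive
import Cfsg.Agent.Lib.Fusion.ThompsonComplement

/-!
# Rank three: the odd cores of the involution centralisers are trivial
-/

set_option autoImplicit false
set_option linter.style.haveILetI false
set_option linter.unusedSectionVars false

namespace CfsgLib.BGroup

open Subgroup
open scoped commutatorElement

universe u

variable {X : Type u} [Group X] [Finite X]

/-- The centralisers of two distinct commuting involutions normalise the signaliser. -/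
theorem Setting.cent_pair_le [IsSimpleGroup X] (hX : Setting X) (S : Sylow 2 X)
    (h8 : Nat.card (S : Subgroup X) = 8) {a b : X} (ha : a ∈ (S : Subgroup X))
    (hb : b ∈ (S : Subgroup X)) (ha1 : a ≠ 1) (hb1 : b ≠ 1) (hab : a ≠ b) :
    centralizer ({a} : Set X) ⊓ centralizer ({b} : Set X) ≤ normalizer (sig S : Set X) := by
  haveI : Fact (Nat.Prime 2) := ⟨Nat.prime_two⟩
  have hS := hX.elementary S
  have hbal : ∀ a ∈ (S : Subgroup X), a ≠ 1 → ∀ b ∈ (S : Subgroup X), b ≠ 1 →
      O a ⊓ centralizer ({b} : Set X) ≤ O b :=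
    fun a ha ha1 b hb hb1 => hX.balance (hX.invol_of_mem S ha ha1) (hX.invol_of_mem S hb hb1)
  obtain ⟨hodd, hsig⟩ := sig_facts S hS h8.ge hbal
  set B : Subgroup X := closure ({a, b} : Set X) with hB
  have hBS : B ≤ (S : Subgroup X) := by
    rw [hB, closure_le]
    rintro _ (rfl | rfl)
    exacts [ha, hb]
  haveI hBk : IsKleinFour B := Invol.isKleinFour_closure_pair (hX.invol_of_mem S ha ha1)
    (hX.invol_of_mem S hb hb1) hab (hX.comm S ha hb)
  haveI hBc : IsMulCommutative B := ⟨⟨fun x y => Subtype.ext (hX.comm S (hBS x.2) (hBS y.2))⟩⟩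
  have habS := mul_mem ha hb
  have hab1 : a * b ≠ 1 := fun h => hab ((mul_eq_one_iff_eq_inv.1 h).trans
    (inv_eq_of_mul_eq_one_right (hX.sq_one S hb)))
  set W' := O a ⊔ O b ⊔ O (a * b) with hW'
  have hW'le : W' ≤ sig S :=
    sup_le (sup_le (O_le_sig S ha ha1) (O_le_sig S hb hb1)) (O_le_sig S habS hab1)
  have hmem : ∀ x ∈ B, x = 1 ∨ x = a ∨ x = b ∨ x = a * b := by
    intro x hx
    rw [hB] at hx
    have hle : closure ({a, b} : Set X) ≤ ((zpowers a) ⊔ (zpowers b)) := by
      rw [closure_le]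
      rintro _ (rfl | rfl)
      exacts [mem_sup_left (mem_zpowers _), mem_sup_right (mem_zpowers _)]
    have hn : zpowers b ≤ normalizer ((zpowers a : Subgroup X) : Set X) := by
      refine zpowers_le.2 (centralizer_le_normalizer _ (mem_centralizer_iff.2 fun y hy => ?_))
      obtain ⟨i, rfl⟩ := mem_zpowers_iff.1 hy
      exact ((show Commute a b from hX.comm S ha hb).zpow_left i).eq
    obtain ⟨y, hy, z, hz, rfl⟩ := Invol.mem_sup_of_normalizing hn (hle hx)
    rcases eq_or_eq_of_mem_zpowers (hX.sq_one S ha) hy with rfl | rfl <;>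
    rcases eq_or_eq_of_mem_zpowers (hX.sq_one S hb) hz with rfl | rfl <;> simp
  have hle : sig S ≤ W' := by
    refine Coprime.le_of_centralizers_le (A := B) (fun hc => ?_) (hBS.trans ?_) ?_ fun x hx hx1 => ?_
    · exact IsKleinFour.not_isCyclic hc
    · exact le_normalizer.trans (normalizer_le_sig S hS h8.ge hbal)
    · rw [hBk.card_four, show (4 : ℕ) = 2 ^ 2 by norm_num]
      exact Nat.Coprime.pow_left 2 (Nat.prime_two.coprime_iff_not_dvd.2 hodd)
    · rw [hsig x (hBS hx) hx1]
      rcases hmem x hx with rfl | rfl | rfl | rfl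
      · exact absurd rfl hx1
      · exact le_sup_of_le_left le_sup_left
      · exact le_sup_of_le_left le_sup_right
      · exact le_sup_right
  have key : ∀ c ∈ centralizer ({a} : Set X) ⊓ centralizer ({b} : Set X),
      ∀ x ∈ sig S, c * x * c⁻¹ ∈ sig S := by
    intro c hc x hx
    have hcab : c ∈ centralizer ({a * b} : Set X) := mem_centralizer_singleton_iff.2
      ((show Commute c a from mem_centralizer_singleton_iff.1 hc.1).mul_right
        (mem_centralizer_singleton_iff.1 hc.2)).eq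
    have h1 : W'.map (MulAut.conj c).toMonoidHom ≤ W' := by
      rw [hW', Subgroup.map_sup, Subgroup.map_sup]
      refine sup_le_sup (sup_le_sup ?_ ?_) ?_ <;>
        rintro _ ⟨y, hy, rfl⟩
      · exact conj_mem_O hc.1 hy
      · exact conj_mem_O hc.2 hy
      · exact conj_mem_O hcab hy
    exact hW'le (h1 (mem_map_of_mem _ (hle hx)))
  intro c hc
  refine mem_normalizer_iff.2 fun x => ⟨key c hc x, fun hx => ?_⟩
  have := key c⁻¹ (inv_mem hc) _ hx
  rwa [show c⁻¹ * (c * x * c⁻¹) * c⁻¹⁻¹ = x by group] at this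

/-- The centraliser normalises the signaliser as soon as its perfect part does. -/
theorem Setting.cent_le_of_perf_le [IsSimpleGroup X] (hX : Setting X) (S : Sylow 2 X)
    (h8 : Nat.card (S : Subgroup X) = 8) {t : X} (ht : t ∈ (S : Subgroup X)) (d : PerfData S t)
    (hL : perf t ≤ normalizer (sig S : Set X)) :
    centralizer ({t} : Set X) ≤ normalizer (sig S : Set X) := by
  haveI : Fact (Nat.Prime 2) := ⟨Nat.prime_two⟩
  have hS := hX.elementary S
  have hbal : ∀ a ∈ (S : Subgroup X), a ≠ 1 → ∀ b ∈ (S : Subgroup X), b ≠ 1 →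
      O a ⊓ centralizer ({b} : Set X) ≤ O b :=
    fun a ha ha1 b hb hb1 => hX.balance (hX.invol_of_mem S ha ha1) (hX.invol_of_mem S hb hb1)
  intro c hc
  set L := perf t with hLdef
  obtain ⟨R, hR⟩ := d.sylow
  let f : L →* L := MonoidHom.mk' (fun x => ⟨_, conj_mem_perf hc x.2⟩)
    (fun x y => Subtype.ext (by push_cast; group))
  have hQ : IsPGroup 2 ((R : Subgroup L).map f) := R.2.map f
  obtain ⟨l, hl⟩ := Invol.exists_conj_le_sylow hQ R
  have hn : ∀ v ∈ (S : Subgroup X) ⊓ L,
      ((l : X) * c) * v * ((l : X) * c)⁻¹ ∈ (S : Subgroup X) ⊓ L := by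
    intro v hv
    rw [← hR] at hv ⊢
    obtain ⟨w, hw, rfl⟩ := hv
    refine ⟨_, hl (f w) (mem_map_of_mem f hw), ?_⟩
    show (l : X) * (c * (w : X) * c⁻¹) * (l : X)⁻¹ = _
    rw [Subgroup.coe_subtype]; group
  have hlc : (l : X) * c ∈ centralizer ({t} : Set X) := mul_mem (perf_le t l.2) hc
  have hmap : (S : Subgroup X).map (MulAut.conj ((l : X) * c)).toMonoidHom ≤ S := by
    rw [← d.sup, Subgroup.map_sup]
    refine sup_le (map_le_iff_le_comap.2 (zpowers_le.2 (mem_comap.2 ?_))) ?_
    · show ((l : X) * c) * t * ((l : X) * c)⁻¹ ∈ zpowers t ⊔ ((S : Subgroup X) ⊓ L)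
      rw [mem_centralizer_singleton_iff.1 hlc, mul_inv_cancel_right]
      exact mem_sup_left (mem_zpowers t)
    · rintro _ ⟨v, hv, rfl⟩
      exact mem_sup_right (hn v hv)
  have hnorm : (l : X) * c ∈ normalizer ((S : Subgroup X) : Set X) := by
    have heq := eq_of_le_of_card_ge hmap
      (card_map_of_injective (K := (S : Subgroup X))
        (MulAut.conj ((l : X) * c)).injective).ge
    refine mem_normalizer_iff.2 fun x => ?_
    conv_rhs => rw [← heq]
    exact (mem_map_iff_mem (MulAut.conj ((l : X) * c)).injective).symm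
  rw [show c = (l : X)⁻¹ * ((l : X) * c) by group]
  exact mul_mem (inv_mem (hL l.2)) (normalizer_le_sig S hS h8.ge hbal hnorm)

/-- If the perfect part of `C(t)` is not of order sixty modulo its core it normalises the signaliser. -/
theorem Setting.perf_le_of_ne_sixty [IsSimpleGroup X] (hX : Setting X) (S : Sylow 2 X)
    (h8 : Nat.card (S : Subgroup X) = 8) {t : X} (ht : t ∈ (S : Subgroup X)) (ht1 : t ≠ 1)
    (d : PerfData S t) (h60 : Nat.card (perf t ⧸ Cfsg.oddCore (perf t)) ≠ 60) :
    perf t ≤ normalizer (sig S : Set X) := by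
  haveI : Fact (Nat.Prime 2) := ⟨Nat.prime_two⟩
  have hS := hX.elementary S
  have hbal : ∀ a ∈ (S : Subgroup X), a ≠ 1 → ∀ b ∈ (S : Subgroup X), b ≠ 1 →
      O a ⊓ centralizer ({b} : Set X) ≤ O b :=
    fun a ha ha1 b hb hb1 => hX.balance (hX.invol_of_mem S ha ha1) (hX.invol_of_mem S hb hb1)
  set L := perf t with hL
  obtain ⟨F, i1, i2, h5, -, ⟨e⟩⟩ := d.psl
  haveI := Matrix.ProjectiveSpecialLinearGroup.rank_two_simple (F := F)
    (by rw [Nat.card_eq_fintype_card]; omega)
  haveI := Coprime.pPrimeCore_characteristic (G := L) 2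
  set K := L ⧸ Cfsg.oddCore L
  haveI : IsSimpleGroup K := MulEquiv.isSimpleGroup e
  set π := QuotientGroup.mk' (Cfsg.oddCore L) with hπ
  set H := (normalizer (sig S : Set X)).comap L.subtype with hH
  have hOle : Cfsg.oddCore L ≤ H := by
    intro g hg
    refine le_normalizer (O_le_sig S ht ht1 ?_)
    have hle : (Cfsg.oddCore L).map L.subtype ≤ O t := by
      refine le_O ((map_subtype_le _).trans (perf_le t)) ⟨fun n hn c => ?_⟩ (by
        rw [card_map_of_injective L.subtype_injective, ← Nat.not_even_iff_odd, even_iff_two_dvd]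
        exact Coprime.pPrimeCore_not_dvd Nat.prime_two)
      let f : L ≃* L :=
        { toFun := fun x => ⟨_, conj_mem_perf c.2 x.2⟩
          invFun := fun x => ⟨_, conj_mem_perf (inv_mem c.2) x.2⟩
          left_inv := fun x => Subtype.ext (by simp only [inv_inv]; group)
          right_inv := fun x => Subtype.ext (by simp only [inv_inv]; group)
          map_mul' := fun a b => Subtype.ext (by push_cast; group) }
      obtain ⟨m, hm, hmn⟩ := hn
      refine ⟨f m, ?_, ?_⟩
      · show f m ∈ Cfsg.pPrimeCore 2 L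
        rw [← Coprime.map_pPrimeCore_equiv f 2]
        exact mem_map_of_mem _ hm
      · show (c : X) * (m : X) * (c : X)⁻¹ = (c : X) * (n : X) * (c : X)⁻¹
        rw [show (m : X) = (n : X) from hmn]
    exact hle ⟨g, hg, rfl⟩
  suffices htop : H.map π = ⊤ by
    intro l hl
    obtain ⟨h, hh, hhl⟩ := (htop ▸ mem_top (π ⟨l, hl⟩) : π ⟨l, hl⟩ ∈ H.map π)
    have h1 : h⁻¹ * ⟨l, hl⟩ ∈ Cfsg.oddCore L := QuotientGroup.eq.1 hhl
    have h2 := mul_mem hh (hOle h1)
    rwa [mul_inv_cancel_left] at h2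
  by_contra htop
  obtain ⟨R, hR⟩ := d.sylow
  set T : Sylow 2 K := R.mapSurjective (QuotientGroup.mk'_surjective _) with hT
  have hTc : (T : Subgroup K) = (R : Subgroup L).map π := Sylow.coe_mapSurjective _ _
  have hR4 : Nat.card (R : Subgroup L) = 4 := by
    rw [← card_map_of_injective (K := (R : Subgroup L)) L.subtype_injective, hR]; exact d.card_four
  have hRS : ∀ x ∈ (R : Subgroup L), (x : X) ∈ (S : Subgroup X) := fun x hx =>
    (hR ▸ mem_map_of_mem _ hx : (x : X) ∈ (S : Subgroup X) ⊓ L).1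
  have hodd : ¬ 2 ∣ Nat.card (Cfsg.oddCore L) := Coprime.pPrimeCore_not_dvd Nat.prime_two
  have hT4 : Nat.card (T : Subgroup K) = 4 := by
    have h1 := Invol.card_map_mk (Cfsg.oddCore L) (R : Subgroup L)
    rw [inf_eq_bot_of_coprime (by
        rw [hR4, show (4 : ℕ) = 2 ^ 2 by norm_num]
        exact Nat.Coprime.pow_left 2 (Nat.prime_two.coprime_iff_not_dvd.2 hodd)),
      Subgroup.card_bot, mul_one, hR4] at h1
    rw [hTc]
    exact h1.symm
  have hTexp : ∀ x ∈ (T : Subgroup K), x * x = 1 := by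
    intro x hx
    rw [hTc] at hx
    obtain ⟨y, hy, rfl⟩ := hx
    rw [← map_mul, show y * y = 1 from Subtype.ext (hX.sq_one S (hRS y hy)), map_one]
  haveI : IsMulCommutative (T : Subgroup K) :=
    IsPGroup.isMulCommutative_of_card_eq_prime_sq (p := 2) (by rw [hT4]; norm_num)
  have hse := stronglyEmbedded_of_cent T inferInstance hTexp
    (fun h => by rw [h, Subgroup.card_bot] at hT4; omega) htop ?_ ?_
  · obtain ⟨F', j1, j2, hF', ⟨e'⟩⟩ := psl_of_se hse T (by omega)
    have h := Classical.card_psl2 (F := F')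
    rw [hF', hT4] at h
    refine h60 ?_
    rw [Nat.card_congr e'.toEquiv]
    norm_num at h
    exact h
  · intro x hx
    rw [hTc] at hx
    obtain ⟨n, hn, rfl⟩ := Fusion.normalizer_map_le (Cfsg.oddCore L) hodd R.2 hx
    refine mem_map_of_mem π (normalizer_le_sig S hS h8.ge hbal ?_)
    have hmap : (S : Subgroup X).map (MulAut.conj (n : X)).toMonoidHom ≤ S := by
      rw [← d.sup, Subgroup.map_sup]
      refine sup_le (map_le_iff_le_comap.2 (zpowers_le.2 (mem_comap.2 ?_))) ?_
      · show (n : X) * t * (n : X)⁻¹ ∈ zpowers t ⊔ ((S : Subgroup X) ⊓ L)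
        rw [mem_centralizer_singleton_iff.1 (perf_le t n.2), mul_inv_cancel_right]
        exact mem_sup_left (mem_zpowers t)
      · rw [← hR]
        rintro _ ⟨_, ⟨v, hv, rfl⟩, rfl⟩
        exact mem_sup_right (mem_map_of_mem L.subtype ((mem_normalizer_iff.1 hn v).1 hv))
    refine mem_normalizer_iff.2 fun x => ?_
    conv_rhs => rw [← eq_of_le_of_card_ge hmap
      (card_map_of_injective (K := (S : Subgroup X))
        (MulAut.conj (n : X)).injective).ge]
    exact (mem_map_iff_mem (MulAut.conj (n : X)).injective).symm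
  · intro a ha ha1 x hx
    rw [hTc] at ha
    obtain ⟨v, hv, rfl⟩ := ha
    have hv1 : v ≠ 1 := fun h => ha1 (by rw [h, map_one])
    have hvo : orderOf v = 2 :=
      Invol.invol_iff.2 ⟨Subtype.ext (hX.sq_one S (hRS v hv)), hv1⟩
    obtain ⟨g, rfl⟩ := QuotientGroup.mk'_surjective (Cfsg.oddCore L) x
    obtain ⟨c, hc, hcg⟩ := Coprime.exists_centralizer_lift (N := Cfsg.oddCore L)
      (by rw [← Nat.not_even_iff_odd, even_iff_two_dvd]; exact hodd) hvo
      (g := g) (mem_centralizer_singleton_iff.1 hx)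
    refine ⟨c, hX.cent_pair_le S h8 ht (hRS v hv) ht1 (fun h => hv1 (Subtype.ext h))
      (fun h => d.t_notMem (by
        have h' : (v : X) ∈ perf t := v.2
        rwa [← h] at h')) ⟨perf_le t c.2, ?_⟩, hcg⟩
    exact mem_centralizer_singleton_iff.2 (congrArg Subtype.val (mem_centralizer_singleton_iff.1 hc))

/-- In rank three with non-solvable centralisers all odd cores are trivial. -/
theorem Setting.O_three_eq_bot [IsSimpleGroup X] (hX : Setting X) (S : Sylow 2 X)
    (h8 : Nat.card (S : Subgroup X) = 8)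
    (hns : ∀ t ∈ (S : Subgroup X), t ≠ 1 → ¬ Group.IsSolvable ↥(centralizer ({t} : Set X)))
    {a : X} (ha : a ∈ (S : Subgroup X)) (ha1 : a ≠ 1) : O a = ⊥ := by
  have hS := hX.elementary S
  have hbal : ∀ a ∈ (S : Subgroup X), a ≠ 1 → ∀ b ∈ (S : Subgroup X), b ≠ 1 →
      O a ⊓ centralizer ({b} : Set X) ≤ O b :=
    fun a ha ha1 b hb hb1 => hX.balance (hX.invol_of_mem S ha ha1) (hX.invol_of_mem S hb hb1)
  refine O_eq_bot S hS h8.ge hbal (fun t ht ht1 => ?_) ha ha1
  have d := hX.perfData S h8 ht ht1 (hns t ht ht1)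
  by_cases h60 : Nat.card (perf t ⧸ Cfsg.oddCore (perf t)) = 60
  · have hcomm := hX.perf_centralizes_O S ht ht1 d h60
    have hSc : ∀ s ∈ (S : Subgroup X), ∀ x ∈ O t, s * x = x * s := by
      intro s hs x hx
      rw [← d.sup] at hs
      have hle : zpowers t ⊔ ((S : Subgroup X) ⊓ perf t) ≤ centralizer ({x} : Set X) := by
        refine sup_le (zpowers_le.2 (mem_centralizer_singleton_iff.2
          (mem_centralizer_singleton_iff.1 (O_le t hx)).symm)) fun v hv => ?_
        refine mem_centralizer_singleton_iff.2 (commutatorElement_eq_one_iff_mul_comm.1 ?_)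
        exact mem_bot.1 (hcomm ▸ commutator_mem_commutator hv.2 hx)
      exact mem_centralizer_singleton_iff.1 (hle hs)
    -- so all the cores coincide
    have hall : ∀ u ∈ (S : Subgroup X), u ≠ 1 → ∀ v ∈ (S : Subgroup X), v ≠ 1 → O u ≤ O v := by
      intro u hu hu1 v hv hv1
      obtain ⟨e, he, heS, het⟩ := hX.exists_stab_invol S ht hu ht1 hu1
      intro x hx
      refine hbal u hu hu1 v hv hv1 ⟨hx, mem_centralizer_singleton_iff.2 ?_⟩
      rw [← het, ← map_O e t] at hx
      obtain ⟨y, hy, rfl⟩ := hx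
      rw [← heS] at hv
      obtain ⟨w, hw, rfl⟩ := hv
      show e y * e w = e w * e y
      rw [← map_mul, ← map_mul, hSc w hw y hy]
    have hsig : sig S = O t :=
      le_antisymm (iSup_le fun u => hall _ u.2.1 u.2.2 t ht ht1) (O_le_sig S ht ht1)
    intro c hc
    rw [hsig]
    refine mem_normalizer_iff.2 fun x => ⟨conj_mem_O hc, fun hx => ?_⟩
    have := conj_mem_O (inv_mem hc) hx
    rwa [show c⁻¹ * (c * x * c⁻¹) * c⁻¹⁻¹ = x by group] at this
  · exact hX.cent_le_of_perf_le S h8 ht d (hX.perf_le_of_ne_sixty S h8 ht ht1 d h60)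

end CfsgLib.BGroup
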