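import Cfsg.Agent.Lib.BGroup.Fusion
import Cfsg.Agent.Lib.BGroup.PerfectFour
import Cfsg.Agent.Lib.HallNumbers.Sixty
import Cfsg.Agent.Lib.Fusion.Abelian
import Cfsg.Agent.Lib.LocalStructure.Basic
import Cfsg.Agent.Lib.Invol.ThreePoint

/-!
# Rank three: the perfect part of an involution centraliser
-/

set_option autoImplicit false
set_option linter.style.haveILetI false
set_option linter.unusedSectionVars false

namespace CfsgLib.BGroup

open Subgroup

universe u

variable {X : Type u} [Group X] [Finite X]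

/-- The largest perfect subgroup of the centraliser of `t`. -/
def perf (t : X) : Subgroup X :=
  sSup {N : Subgroup X | N ≤ centralizer ({t} : Set X) ∧ ⁅N, N⁆ = N}

theorem perf_le (t : X) : perf t ≤ centralizer ({t} : Set X) := sSup_le fun _ h => h.1

theorem perf_comm (t : X) : ⁅perf t, perf t⁆ = perf t :=
  le_antisymm (commutator_le_self _) (sSup_le fun N h =>
    h.2.ge.trans (commutator_mono (le_sSup h) (le_sSup h)))

theorem le_perf {t : X} {N : Subgroup X} (h : N ≤ centralizer ({t} : Set X)) (hN : ⁅N, N⁆ = N) :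
    N ≤ perf t := le_sSup ⟨h, hN⟩

theorem map_perf_le (e : MulAut X) (t : X) : (perf t).map e.toMonoidHom ≤ perf (e t) :=
  le_perf ((map_mono (perf_le t)).trans (map_centralizer e t).le)
    (by rw [← map_commutator, perf_comm])

theorem map_perf (e : MulAut X) (t : X) : (perf t).map e.toMonoidHom = perf (e t) := by
  refine le_antisymm (map_perf_le e t) fun x hx => ⟨e⁻¹ x, ?_, MulAut.apply_inv_self _ _ _⟩
  have h := map_perf_le e⁻¹ (e t) (mem_map_of_mem _ hx)
  rwa [MulAut.inv_apply_self] at h

theorem mem_perf_map {e : MulAut X} {t x : X} (hx : x ∈ perf t) : e x ∈ perf (e t) :=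
  map_perf e t ▸ mem_map_of_mem _ hx

theorem conj_mem_perf {t c x : X} (hc : c ∈ centralizer ({t} : Set X)) (hx : x ∈ perf t) :
    c * x * c⁻¹ ∈ perf t := by
  have h := mem_perf_map (e := MulAut.conj c) hx
  rwa [show MulAut.conj c t = t by
    rw [MulAut.conj_apply, mem_centralizer_singleton_iff.1 hc, mul_inv_cancel_right]] at h

instance perf_subgroupOf_normal (t : X) :
    ((perf t).subgroupOf (centralizer ({t} : Set X))).Normal :=
  ⟨fun _ hn c => conj_mem_perf c.2 hn⟩

instance isPerfect_perf (t : X) : Group.IsPerfect (perf t) := by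
  rw [Group.isPerfect_def]
  apply map_injective (perf t).subtype_injective
  rw [Subgroup.map_subtype_commutator, perf_comm, ← MonoidHom.range_eq_map, range_subtype]

theorem perf_not_solvable {t : X} (h : ¬ Group.IsSolvable ↥(centralizer ({t} : Set X))) :
    ¬ Group.IsSolvable ↥(perf t) := by
  obtain ⟨N, -, hns, hp⟩ := HallNumbers.exists_perfect_normal h
  intro hs
  refine hns ?_
  have hle : N.map (centralizer ({t} : Set X)).subtype ≤ perf t := by
    refine le_perf (map_subtype_le _) ?_
    rw [← map_commutator]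
    congr 1
    have h1 := Group.isPerfect_def.1 hp
    rw [← Subgroup.map_subtype_commutator, h1, ← MonoidHom.range_eq_map, range_subtype]
  haveI := hs
  exact Coprime.isSolvable_congr
    (N.equivMapOfInjective _ (centralizer ({t} : Set X)).subtype_injective).symm
    (Coprime.isSolvable_congr (subgroupOfEquivOfLe hle) inferInstance)

/-- The structure of the perfect part when `|S| = 8` and `C(t)` is not solvable. -/
structure PerfData (S : Sylow 2 X) (t : X) : Prop where
  t_notMem : t ∉ perf t
  card_four : Nat.card ((S : Subgroup X) ⊓ perf t : Subgroup X) = 4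
  sylow : ∃ R : Sylow 2 (perf t), (R : Subgroup (perf t)).map (perf t).subtype = (S : Subgroup X) ⊓ perf t
  sup : zpowers t ⊔ ((S : Subgroup X) ⊓ perf t) = (S : Subgroup X)
  psl : ∃ (F : Type) (_ : Field F) (_ : Fintype F), 5 ≤ Fintype.card F ∧
    (Fintype.card F % 8 = 3 ∨ Fintype.card F % 8 = 5) ∧
    Nonempty (perf t ⧸ Cfsg.oddCore (perf t) ≃* Matrix.ProjectiveSpecialLinearGroup (Fin 2) F)

theorem Setting.perfData (hX : Setting X) (S : Sylow 2 X) (h8 : Nat.card (S : Subgroup X) = 8)
    {t : X} (ht : t ∈ (S : Subgroup X)) (ht1 : t ≠ 1)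
    (hns : ¬ Group.IsSolvable ↥(centralizer ({t} : Set X))) : PerfData S t := by
  haveI : Fact (Nat.Prime 2) := ⟨Nat.prime_two⟩
  set C := centralizer ({t} : Set X) with hC
  set L := perf t with hL
  have hSC : (S : Subgroup X) ≤ C := fun x hx => mem_centralizer_singleton_iff.2 (hX.comm S hx ht)
  obtain ⟨R₀, hR₀⟩ := LS.sylow_inf_normal (S.subtype hSC) (L.subgroupOf C)
  -- transport to `L`
  let e := subgroupOfEquivOfLe (perf_le t)
  set R : Sylow 2 L := R₀.mapSurjective (f := e.toMonoidHom) e.surjective with hR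
  have hRmap : (R : Subgroup L).map L.subtype = (S : Subgroup X) ⊓ L := by
    have hRc : (R : Subgroup L) = (R₀ : Subgroup (L.subgroupOf C)).map e.toMonoidHom :=
      Sylow.coe_mapSurjective _ _
    have h1 := congrArg (Subgroup.map C.subtype) hR₀
    rw [hRc, map_map]
    rw [map_map, Sylow.coe_subtype] at h1
    refine Eq.trans (Eq.trans (by rfl) h1) ?_
    ext x
    constructor
    · rintro ⟨y, hy, rfl⟩; exact hy
    · exact fun hx => ⟨⟨x, hSC hx.1⟩, hx, rfl⟩
  have hexpR : ∀ x ∈ (R : Subgroup L), x * x = 1 := fun x hx => Subtype.ext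
    (hX.sq_one S (hRmap ▸ mem_map_of_mem _ hx : (x : X) ∈ (S : Subgroup X) ⊓ L).1)
  have hns' := perf_not_solvable hns
  have htL : t ∉ L := by
    intro htL
    haveI : IsMulCommutative (R : Subgroup L) := ⟨⟨fun x y => Subtype.ext (Subtype.ext (hX.comm S
      (hRmap ▸ mem_map_of_mem _ x.2 : ((x : L) : X) ∈ (S : Subgroup X) ⊓ L).1
      (hRmap ▸ mem_map_of_mem _ y.2 : ((y : L) : X) ∈ (S : Subgroup X) ⊓ L).1))⟩⟩
    have h1 := Fusion.central_inf_commutator_eq_one (R : Subgroup L)
      (by
        obtain ⟨k, hk⟩ := R.2.exists_card_eq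
        rw [hk]
        exact Nat.Coprime.pow_left k (Nat.prime_two.coprime_iff_not_dvd.2 R.not_dvd_index))
      (x := ⟨t, htL⟩)
      (mem_center_iff.2 fun g => Subtype.ext (mem_centralizer_singleton_iff.1 (perf_le t g.2)))
      (by rw [Group.isPerfect_def.1 (isPerfect_perf t)]; exact mem_top _)
      (by
        have : t ∈ (R : Subgroup L).map L.subtype := hRmap ▸ ⟨ht, htL⟩
        obtain ⟨y, hy, hyt⟩ := this
        rwa [show (⟨t, htL⟩ : L) = y from Subtype.ext hyt.symm])
    exact ht1 (congrArg Subtype.val h1)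
  have h4 : Nat.card ((S : Subgroup X) ⊓ L : Subgroup X) = 4 := by
    obtain ⟨k, hk3, hk⟩ := (Nat.dvd_prime_pow Nat.prime_two (m := 3)).1
      ((h8 ▸ card_dvd_of_le inf_le_left :) : Nat.card ((S : Subgroup X) ⊓ L : Subgroup X) ∣ 2 ^ 3)
    have hkR : Nat.card (R : Subgroup L) = 2 ^ k := by
      rw [← hk, ← hRmap, card_map_of_injective L.subtype_injective]
    rcases (show k = 0 ∨ k = 1 ∨ k = 2 ∨ k = 3 by omega) with h | h | h | h
    · exfalso
      subst h
      refine hns' (Cfsg.Agent.S0205.result ?_)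
      rw [← Nat.not_even_iff_odd, even_iff_two_dvd]
      intro hd
      have := R.pow_dvd_card_of_pow_dvd_card (n := 1) (by rw [pow_one]; exact hd)
      rw [hkR] at this; norm_num at this
    · exfalso
      subst h
      rw [pow_one] at hkR
      haveI : IsCyclic (R : Subgroup L) := isCyclic_of_prime_card hkR
      refine hns' ?_
      obtain ⟨P, N, hN, hNP⟩ := Invol.hasNormalPComplement_two_of_isCyclic R inferInstance
      haveI := hN
      have hodd : Odd (Nat.card N) := by
        rw [← Nat.not_even_iff_odd, even_iff_two_dvd, ← hNP.index_eq_card]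
        exact P.not_dvd_index
      refine (Group.isSolvable_iff_subgroup_quotient N).2 ⟨Cfsg.Agent.S0205.result hodd, ?_⟩
      have hq : IsPGroup 2 (L ⧸ N) := by
        obtain ⟨j, hj⟩ := P.2.exists_card_eq
        exact IsPGroup.of_card (n := j) (by
          rw [← Subgroup.index_eq_card, hNP.symm.index_eq_card]; exact hj)
      haveI := hq.isNilpotent
      infer_instance
    · rw [hk, h]; norm_num
    · exfalso
      subst h
      exact htL ((eq_of_le_of_card_ge inf_le_left (by rw [h8, hk]; norm_num) :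
        (S : Subgroup X) ⊓ L = S).symm ▸ ht : t ∈ (S : Subgroup X) ⊓ L).2
  refine ⟨htL, h4, ⟨R, hRmap⟩, ?_, ?_⟩
  · refine eq_of_le_of_card_ge (sup_le (zpowers_le.2 ht) inf_le_left) ?_
    have hlt : (S : Subgroup X) ⊓ L < zpowers t ⊔ ((S : Subgroup X) ⊓ L) :=
      lt_of_le_of_ne le_sup_right fun h => htL (h.symm ▸ mem_sup_left (mem_zpowers t) :
        t ∈ (S : Subgroup X) ⊓ L).2
    have hd : Nat.card ((S : Subgroup X) ⊓ L : Subgroup X) ∣
        Nat.card (zpowers t ⊔ ((S : Subgroup X) ⊓ L) : Subgroup X) := card_dvd_of_le hlt.le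
    have hne : Nat.card ((S : Subgroup X) ⊓ L : Subgroup X) ≠
        Nat.card (zpowers t ⊔ ((S : Subgroup X) ⊓ L) : Subgroup X) :=
      fun h => hlt.ne (eq_of_le_of_card_ge hlt.le h.ge)
    have hle : Nat.card (zpowers t ⊔ ((S : Subgroup X) ⊓ L) : Subgroup X) ∣ 8 :=
      h8 ▸ card_dvd_of_le (sup_le (zpowers_le.2 ht) inf_le_left)
    rw [h4] at hd hne
    rw [h8]
    generalize Nat.card (zpowers t ⊔ ((S : Subgroup X) ⊓ L) : Subgroup X) = c at hd hne hle ⊢
    have := Nat.le_of_dvd (by norm_num) hle
    interval_cases c <;> omega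
  · refine psl_of_perfect_four R ?_ hexpR
    rw [← h4, ← hRmap, card_map_of_injective L.subtype_injective]

end CfsgLib.BGroup
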