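import Cfsg.Agent.Lib.BGroup.FieldKill.Main

/-!
# Rank three with trivial cores: the first Janko group
-/

set_option autoImplicit false
set_option linter.style.haveILetI false

namespace CfsgLib.BGroup

open Subgroup

universe u

/-- A simple group with a setting, Sylow `2`-subgroups of order eight, non-solvable involution
centralisers and trivial odd cores is the first Janko group. -/
theorem Setting.isoJ1 {X : Type u} [Group X] [Finite X] [IsSimpleGroup X] (hX : Setting X) (S : Sylow 2 X)
    (h8 : Nat.card (S : Subgroup X) = 8)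
    (hns : ∀ t ∈ (S : Subgroup X), t ≠ 1 → ¬ Group.IsSolvable ↥(centralizer ({t} : Set X)))
    (hO : ∀ t ∈ (S : Subgroup X), t ≠ 1 → O t = ⊥) : Cfsg.Spor.IsoJ1 X := by
  haveI : Fact (Nat.Prime 2) := ⟨Nat.prime_two⟩
  obtain ⟨t, htS, ht1⟩ := (bot_or_exists_ne_one (S : Subgroup X)).resolve_left fun h => by
    rw [h, card_bot] at h8; omega
  obtain ⟨Φ, -⟩ := FieldKill.exists_frame hX (fun P => by rw [P.card_eq_multiplicity, ← S.card_eq_multiplicity, h8])
    (hX.invol_of_mem S htS ht1) (hO t htS ht1) (hns t htS ht1)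
  exact Φ.isoJ1 hX

end CfsgLib.BGroup
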